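import Cfsg.Agent.Lib.Fi22Pres.Main
import Cfsg.Agent.Lib.Fi22OSeven.Main
import Cfsg.Agent.Lib.CosetEnum.OutThree

/-!
The symmetry of the diagram of Fi22 exchanging two arms, and the image of the subgroup `Ω₇(3)`.
-/

set_option autoImplicit false
set_option maxRecDepth 100000

namespace CfsgLib.Fi23ThreeA

open CfsgLib.CosetEnum CfsgLib.Fi22Pres Cfsg.Spor

/-- the exchange of the arms `a, b, c` and `g, f, e` on indices -/
def flipIdx (g : ℕ) : ℕ := [6, 5, 4, 3, 2, 1, 0, 7, 8].getD g g

/-- the exchange on letters -/
def flipGen : Fi22.Gen → Fi22.Gen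
  | .a => .g | .b => .f | .c => .e | .d => .d | .e => .c
  | .f => .b | .g => .a | .h => .h | .i => .i

theorem flip_label : ∀ x y : Fi22.Gen,
    coxLabel Fi22.edges (flipGen x) (flipGen y) = coxLabel Fi22.edges x y := by
  intro x y; cases x <;> cases y <;> rfl

theorem flip_checks : (extraW.all fun w => (w.all fun g => Nat.blt g 9) &&
    sameBases certA levels (w.map flipIdx) []) = true := by decide +kernel

/-- the image of a letter -/
noncomputable def flipImg (x : Fi22.Gen) : Fi22 := PresentedGroup.of (flipGen x)

theorem flip_rel : ∀ r ∈ coxRelators Fi22.edges ∪ {r | r ∈ Fi22.extra}, FreeGroup.lift flipImg r = 1 := by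
  rintro r (⟨x, -, y, -, rfl⟩ | hr)
  · simp only [map_pow, map_mul, FreeGroup.lift_apply_of, flipImg]
    rw [← flip_label]
    exact of_pair (extra := Fi22.extra) (nodes _) (nodes _)
  · obtain ⟨k, hk, rfl⟩ := List.getElem_of_mem (Set.mem_ofPred_eq ▸ hr : r ∈ Fi22.extra)
    have hlen := extraWords.length_eq
    have h2 := (List.forall₂_iff_get.mp extraWords).2 k hk (by omega)
    simp only [List.get_eq_getElem] at h2
    rw [h2 _ flipImg (fun x => of_sq (nodes _))]
    set w := extraW[k]'(by omega)
    have hw := List.all_eq_true.mp flip_checks w (List.getElem_mem _)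
    simp only [Bool.and_eq_true, List.all_eq_true, Nat.blt_eq] at hw
    have e1 : prodW (genOf letters flipImg) w = prodW gen (w.map flipIdx) := by
      simp only [prodW, List.map_map]
      refine congrArg List.prod (List.map_congr_left fun g hg => ?_)
      have h9 := hw.1 g hg
      have key : ∀ g < 9, genOf letters flipImg g = gen (flipIdx g) := by
        intro g hg
        interval_cases g <;> rfl
      exact key g h9
    rw [e1]
    refine (setupA.eq_of_bases chain_ok (chain_size.trans card_faithful.1.symm) ?_ (by simp) hw.2).trans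
      (prodW_nil _)
    intro g hg
    obtain ⟨j, hj, rfl⟩ := List.mem_map.mp hg
    have hjk : ∀ g < 9, flipIdx g < 9 := by decide
    exact hjk j (hw.1 j hj)

/-- the exchange as an endomorphism -/
noncomputable def flipHom : Fi22 →* Fi22 := PresentedGroup.toGroup flip_rel

theorem flipHom_twice (x : Fi22) : flipHom (flipHom x) = x := by
  have h : flipHom.comp flipHom = MonoidHom.id Fi22 := by
    refine PresentedGroup.ext fun g => ?_
    simp only [MonoidHom.comp_apply, MonoidHom.id_apply, flipHom, PresentedGroup.toGroup.of, flipImg]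
    cases g <;> rfl
  exact DFunLike.congr_fun h x

/-- the subgroup of the letters other than `g` -/
noncomputable def subH' : Subgroup Fi22 :=
  Subgroup.closure {y | ∃ g ∈ [0, 1, 2, 3, 4, 5, 7, 8], gen g = y}

theorem flipHom_gen {g : ℕ} (hg : g < 9) : flipHom (gen g) = gen (flipIdx g) := by
  interval_cases g <;> exact PresentedGroup.toGroup.of _

theorem subH_map : subH.map flipHom = subH' := by
  rw [subH, genSub, MonoidHom.map_closure, subH']
  congr 1
  ext y
  constructor
  · rintro ⟨_, ⟨g, hg, rfl⟩, rfl⟩
    refine ⟨flipIdx (g + 1), ?_, ?_⟩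
    · interval_cases g <;> decide
    · interval_cases g <;> exact (flipHom_gen (by norm_num)).symm
  · rintro ⟨g, hg, rfl⟩
    have h9 : g < 9 := by
      simp only [List.mem_cons, List.not_mem_nil, or_false] at hg; omega
    refine ⟨gen (flipIdx g), ⟨flipIdx g - 1, ?_, ?_⟩, ?_⟩
    · interval_cases g <;> simp [flipIdx] at hg ⊢
    · interval_cases g <;> first
        | (simp at hg; done)
        | rfl
    · refine (flipHom_gen ?_).trans (congrArg gen ?_)
      · interval_cases g <;> decide
      · interval_cases g <;> rfl

theorem subH'_facts : Nat.card subH' = 4585351680 ∧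
    Nonempty (subH' ≃* Cfsg.POmega (ZMod 3) (Cfsg.quadFormOdd 3 (ZMod 3))) := by
  have hinj : Function.Injective flipHom := fun a b h => by
    rw [← flipHom_twice a, h, flipHom_twice]
  let e : subH ≃* subH' := (subH.equivMapOfInjective flipHom hinj).trans (MulEquiv.subgroupCongr subH_map)
  refine ⟨?_, ⟨e.symm.trans Fi22OSeven.subH_iso.some⟩⟩
  rw [← Nat.card_congr e.toEquiv]
  have h := subH.card_mul_index
  rw [index_subH, card_faithful.1] at h
  omega

end CfsgLib.Fi23ThreeA
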