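import Cfsg.Agent.Lib.Fi23ThreeA.CheckB
import Cfsg.Agent.Lib.Fi23ThreeA.Aut
import Cfsg.Agent.Lib.Fi23Inv.PairCent
import Cfsg.Agent.Lib.Fi23Cent.OrbitStab
import Cfsg.Prelude.Def_FischerSpaces

/-!
An element of order three that is the product of two transpositions of the presented group Fi23: the
transpositions inverting it, those centralizing it, and the group the latter generate.
-/

set_option autoImplicit false
set_option maxRecDepth 100000
set_option linter.style.haveILetI false

namespace CfsgLib.Fi23ThreeA

open CfsgLib.CosetEnum CfsgLib.Fi23Pres CfsgLib Cfsg.Spor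
open CfsgLib.Fi23Inv (tr tr_mem conj_tr tr_zero toFi22 toFi22_gen)
open CfsgLib.Fi23Cent (env class_iff)

theorem N_pts : 0 < certA.N ∧ 1 < certA.N ∧ 7999 < certA.N ∧ 434 < certA.N ∧ 224 < certA.N := by
  have h := third_point
  simp only [Bool.and_eq_true, Nat.blt_eq] at h
  omega

theorem one_noncomm : ¬ Commute central (tr 1) := by
  have h := third_point
  simp only [Bool.and_eq_true, Bool.not_eq_true'] at h
  intro hc
  have := (graph.mask ⟨1, N_pts.2.1⟩).mpr hc
  rw [h.1.1.1.1.2] at this
  simp at this

theorem trans_sq {d : Fi23} (hd : d ∈ transClass) : d * d = 1 := by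
  have h := transClass_three.1.1 d hd
  rw [← pow_two, ← h]
  exact pow_orderOf_eq_one d

theorem trans_inv {d : Fi23} (hd : d ∈ transClass) : d⁻¹ = d := inv_eq_of_mul_eq_one_right (trans_sq hd)

theorem braid {d e : Fi23} (hd : d ∈ transClass) (he : e ∈ transClass) (h : ¬ Commute d e) :
    d * e * d = e * d * e := by
  obtain ⟨x, rfl⟩ := (class_iff d).mp hd
  obtain ⟨y, rfl⟩ := (class_iff e).mp he
  have h3 := Fi23Cent.three_conj x y h
  set a := conjAt certA gen central x
  set b := conjAt certA gen central y
  have e1 : a * b * a * (b * a * b) = 1 := by rw [← h3, pow_succ, pow_two]; simp only [mul_assoc]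
  rw [← inv_inv (a * b * a), inv_eq_of_mul_eq_one_right e1]
  simp [trans_inv hd, trans_inv he, mul_assoc]

theorem third_eq : central * tr 1 * central = tr 7999 := by
  have h := third_point
  simp only [Bool.and_eq_true] at h
  have hr : rho central ⟨1, N_pts.2.1⟩ = ⟨7999, N_pts.2.2.1⟩ :=
    Fin.ext ((setupA.rho_prodW z_lt _).trans (Nat.eq_of_beq_eq_true h.1.1.1.1.1.1))
  have := conj_tr central ⟨1, N_pts.2.1⟩
  rw [hr, MulAut.conj_apply, trans_inv (mem_conjugatesOf_self)] at this
  exact this

/-- the element of order three -/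
noncomputable def xElt : Fi23 := central * tr 1

theorem xWord_lt : ∀ g ∈ xWord, g < certA.K :=
  app_lt z_lt (env.dWord_spec ⟨1, N_pts.2.1⟩).1

theorem xWord_eq : prodW gen xWord = xElt := by
  rw [xWord, prodW_append, ← (env.dWord_spec ⟨1, N_pts.2.1⟩).2]
  rfl

/-- the centralizer of the two transpositions -/
noncomputable def threeK : Subgroup Fi23 := Subgroup.centralizer ({central, tr 1} : Set Fi23)

theorem mem_threeK {g : Fi23} : g ∈ threeK ↔ Commute g central ∧ Commute g (tr 1) := by
  rw [threeK, Subgroup.mem_centralizer_iff]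
  refine ⟨fun h => ⟨(h _ (by simp)).symm, (h _ (by simp)).symm⟩, ?_⟩
  rintro ⟨a, b⟩ y (rfl | rfl)
  exacts [a.eq.symm, b.eq.symm]

/-- the subgroup generated by eight letters -/
noncomputable def letK : Subgroup Fi23 :=
  Subgroup.closure {y | ∃ g ∈ [0, 1, 2, 3, 4, 5, 7, 8], gen g = y}

theorem letK_word {w : List ℕ} (hw : w ∈ kGens) : prodW gen w ∈ letK := by
  simp only [kGens, List.mem_cons, List.not_mem_nil, or_false] at hw
  rcases hw with rfl | rfl | rfl | rfl | rfl | rfl | rfl | rfl <;>
    exact Subgroup.list_prod_mem _ fun y hy => by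
      simp only [List.map_cons, List.map_nil, List.mem_singleton] at hy
      exact hy ▸ Subgroup.subset_closure ⟨_, by simp, rfl⟩

theorem letK_le : letK ≤ threeK := by
  refine (Subgroup.closure_le _).mpr ?_
  rintro _ ⟨g, hg, rfl⟩
  have h := kGens_ok
  simp only [List.all_eq_true, Bool.and_eq_true] at h
  have hw : [g] ∈ kGens := by
    simp only [List.mem_cons, List.not_mem_nil, or_false] at hg
    rcases hg with rfl | rfl | rfl | rfl | rfl | rfl | rfl | rfl <;> simp [kGens]
  obtain ⟨⟨hlt, h0⟩, h1⟩ := h [g] hw
  have hlt' : ∀ k ∈ [g], k < certA.K := lt_of_blt (List.all_eq_true.mpr hlt)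
  have hp : prodW gen [g] = gen g := by simp [prodW]
  have key : ∀ p : Fin certA.N, Nat.beq (certA.run p (certA.revInv [g])) p = true →
      Commute (gen g) (tr p) := fun p hpp => by
    rw [← hp]
    exact (env.fix_iff _ p).mp (Fin.ext ((setupA.rho_prodW hlt' p).trans (Nat.eq_of_beq_eq_true hpp)))
  exact mem_threeK.mpr ⟨tr_zero ▸ key ⟨0, N_pts.1⟩ h0, key ⟨1, N_pts.2.1⟩ h1⟩

theorem orbit_conj {es : List (ℕ × ℕ)} {r : ℕ} (hr : r < certA.N) {M : ℕ}
    (hm : reach certA kGens es (2 ^ r) = some M) {y : ℕ} (hy : M.testBit y = true) :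
    y < certA.N ∧ ∃ k ∈ letK, MulAut.conj k (tr r) = tr y := by
  have hg := kGens_ok
  simp only [List.all_eq_true, Bool.and_eq_true] at hg
  refine reach_spec (P := fun v => v < certA.N ∧ ∃ k ∈ letK, MulAut.conj k (tr r) = tr v)
    (fun v i hi ⟨hv, k, hk, e⟩ => ?_) es _ _ hm (fun v hv => ?_) y hy
  · set u := kGens.getD i []
    have hu : u ∈ kGens := by
      simp only [u, List.getD_eq_getElem _ _ hi]; exact List.getElem_mem hi
    have hlt : ∀ g ∈ u, g < certA.K := lt_of_blt (List.all_eq_true.mpr (hg u hu).1.1)
    have erun : (rho (prodW gen u) ⟨v, hv⟩ : ℕ) = certA.run v (certA.revInv u) :=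
      setupA.rho_prodW hlt _
    refine ⟨erun ▸ Fin.isLt _, prodW gen u * k, mul_mem (letK_word hu) hk, ?_⟩
    rw [map_mul, MulAut.mul_apply, e, ← erun]
    exact conj_tr _ ⟨v, hv⟩
  · rw [Nat.testBit_two_pow, decide_eq_true_eq] at hv
    subst hv
    exact ⟨hr, 1, one_mem _, by simp⟩

theorem near_conj {y : ℕ} (hy : nearMask.testBit y = true) :
    y < certA.N ∧ ∃ k ∈ letK, MulAut.conj k (tr 434) = tr y := by
  cases h : reach certA kGens nearTree (2 ^ 434) with
  | none => have := near_reach; rw [h] at this; simp at this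
  | some M =>
    rw [nearMask, h, Option.getD_some] at hy
    exact orbit_conj N_pts.2.2.2.1 h hy

theorem far_conj {y : ℕ} (hy : farMask.testBit y = true) :
    y < certA.N ∧ ∃ k ∈ letK, MulAut.conj k (tr 224) = tr y := by
  cases h : reach certA kGens farTree (2 ^ 224) with
  | none => have := far_reach; rw [h] at this; simp at this
  | some M =>
    rw [farMask, h, Option.getD_some] at hy
    exact orbit_conj N_pts.2.2.2.2 h hy

theorem scan_spec {x : ℕ} (hx : x < certA.N) : scanAt nearMask farMask x = true := by
  refine Cert.allPts_spec (Cert.allPts_of_blockPts (k := 13) (b := 4) (by decide +kernel)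
    (by decide +kernel) fun j hj => ?_) x hx
  match j, hj with
  | 0, _ => have h := scan0; simp only [strict_eq] at h; exact h
  | 1, _ => have h := scan1; simp only [strict_eq] at h; exact h
  | 2, _ => have h := scan2; simp only [strict_eq] at h; exact h
  | 3, _ => have h := scan3; simp only [strict_eq] at h; exact h
  | n + 4, h => omega

theorem fix_spec {x : ℕ} (hx : x < certA.N) : fixAt x = true := by
  refine Cert.allPts_spec (Cert.allPts_of_blockPts (k := 13) (b := 4) (by decide +kernel)
    (by decide +kernel) fun j hj => ?_) x hx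
  match j, hj with
  | 0, _ => exact fix_scan0
  | 1, _ => exact fix_scan1
  | 2, _ => exact fix_scan2
  | 3, _ => exact fix_scan3
  | n + 4, h => omega

theorem nbr_spec {x : ℕ} (hx : x < certA.N) : nbrAt nearMask x = true := by
  refine Cert.allPts_spec (Cert.allPts_of_blockPts (k := 13) (b := 4) (by decide +kernel)
    (by decide +kernel) fun j hj => ?_) x hx
  match j, hj with
  | 0, _ => have h := nbr_scan0; simp only [strict_eq] at h; exact h
  | 1, _ => have h := nbr_scan1; simp only [strict_eq] at h; exact h
  | 2, _ => have h := nbr_scan2; simp only [strict_eq] at h; exact h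
  | 3, _ => have h := nbr_scan3; simp only [strict_eq] at h; exact h
  | n + 4, h => omega

theorem near_spec (p : Fin certA.N) (h0 : Commute central (tr p)) (h1 : Commute (tr 1) (tr p)) :
    nearMask.testBit p = true := by
  have h := scan_spec p.2
  unfold scanAt at h
  simp only [strict_eq] at h
  rwa [(graph.mask p).mpr h0, pick_true,
    (env.graph.commute_iff env.rep ⟨1, N_pts.2.1⟩ p).mpr h1, pick_true] at h

theorem far_spec (p : Fin certA.N) (h0 : ¬ Commute central (tr p)) (h1 : ¬ Commute (tr 1) (tr p))
    (h2 : ¬ Commute (tr 7999) (tr p)) : farMask.testBit p = true := by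
  have h := scan_spec p.2
  unfold scanAt at h
  simp only [strict_eq] at h
  have b0 : Nat.testBit commMask p = false :=
    Bool.eq_false_iff.mpr fun hb => h0 ((graph.mask p).mp hb)
  have b1 : certA.relB commMask 1 p = false :=
    Bool.eq_false_iff.mpr fun hb => h1 ((env.graph.commute_iff env.rep ⟨1, N_pts.2.1⟩ p).mp hb)
  have b2 : certA.relB commMask 7999 p = false :=
    Bool.eq_false_iff.mpr fun hb => h2 ((env.graph.commute_iff env.rep ⟨7999, N_pts.2.2.1⟩ p).mp hb)
  rw [b0, pick_false, b1, b2, Bool.false_or, pick_false] at h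
  simp only [Bool.or_eq_true] at h
  rcases h with ((h | h) | h) | h
  · exact absurd (Nat.eq_of_beq_eq_true h ▸ tr_zero.symm ▸ Commute.refl _) h0
  · exact absurd (Nat.eq_of_beq_eq_true h ▸ Commute.refl _) h1
  · exact absurd (Nat.eq_of_beq_eq_true h ▸ Commute.refl _) h2
  · exact h

/-- A transposition centralizing the element commutes with both factors. -/
theorem comm_both {e : Fi23} (he : e ∈ transClass) (h : Commute e xElt) :
    Commute central e ∧ Commute (tr 1) e := by
  obtain ⟨p, rfl⟩ := (class_iff e).mp he
  have hf : rho (prodW gen xWord) p = p := (env.fix_iff _ p).mpr (by rw [xWord_eq]; exact h.symm)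
  have hb : Nat.beq (certA.run p (certA.revInv xWord)) p = true := by
    rw [← setupA.rho_prodW xWord_lt p, hf]; exact Nat.beq_refl _
  have hs := fix_spec p.2
  unfold fixAt at hs
  simp only [strict_eq] at hs
  rw [hb, pick_true, band_eq_true] at hs
  exact ⟨(graph.mask p).mp hs.1, (env.graph.commute_iff env.rep ⟨1, N_pts.2.1⟩ p).mp hs.2⟩

/-- If a transposition inverts the product of two others and commutes with one of them, it is that one. -/
theorem inv_comm_eq {a d e : Fi23} (ha : a ∈ transClass) (hd : d ∈ transClass) (he : e ∈ transClass)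
    (had : ¬ Commute a d) (h : e * (a * d) * e = (a * d)⁻¹) :
    (Commute e a → e = a) ∧ (Commute e d → e = d) := by
  rw [mul_inv_rev, trans_inv ha, trans_inv hd] at h
  have hbr := braid ha hd had
  constructor
  · intro hc
    have h1 : e * d * e = a * d * a := by
      calc e * d * e = a * (a * e) * d * e := by rw [← mul_assoc a a e, trans_sq ha, one_mul]
        _ = a * (e * (a * d) * e) := by rw [← hc.eq]; simp only [mul_assoc]
        _ = a * d * a := by rw [h]; simp only [mul_assoc]
    have hne : ¬ Commute d e := fun hde => had (by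
      have h2 : d = a * d * a := by
        rw [← h1, ← hde.eq, mul_assoc, trans_sq he, mul_one]
      show a * d = d * a
      conv_rhs => rw [h2, mul_assoc, mul_assoc, trans_sq ha, mul_one])
    rw [← braid hd he hne, hbr] at h1
    simpa [mul_assoc] using h1
  · intro hc
    have h1 : e * a * e = d * a * d := by
      calc e * a * e = e * (a * d) * e * d := by
            rw [mul_assoc _ e d, hc.eq, ← mul_assoc _ d e, mul_assoc e (a * d) d, mul_assoc a d d,
              trans_sq hd, mul_one]
        _ = d * a * d := by rw [h]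
    have hne : ¬ Commute a e := fun hae => had (by
      have h2 : a = d * a * d := by
        rw [← h1, ← hae.eq, mul_assoc, trans_sq he, mul_one]
      show a * d = d * a
      conv_lhs => rw [h2, mul_assoc, trans_sq hd, mul_one])
    rw [← braid ha he hne, ← hbr] at h1
    simpa [mul_assoc] using h1

/-- The transpositions inverting the element are the three of its triple. -/
theorem inverting {e : Fi23} (he : e ∈ transClass) (h : e * xElt * e = xElt⁻¹) :
    e = central ∨ e = tr 1 ∨ e = tr 7999 := by
  have hz : central ∈ transClass := mem_conjugatesOf_self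
  have hy : tr 1 ∈ transClass := tr_mem ⟨1, N_pts.2.1⟩
  have hc : tr 7999 ∈ transClass := tr_mem ⟨7999, N_pts.2.2.1⟩
  have h01 := inv_comm_eq hz hy he one_noncomm h
  by_cases c0 : Commute e central
  · exact Or.inl (h01.1 c0)
  by_cases c1 : Commute e (tr 1)
  · exact Or.inr (Or.inl (h01.2 c1))
  by_cases c2 : Commute e (tr 7999)
  · refine Or.inr (Or.inr ?_)
    have ex : tr 7999 * central = xElt := by
      rw [← third_eq, mul_assoc, trans_sq hz, mul_one]; rfl
    have hne : ¬ Commute (tr 7999) central := fun hh => one_noncomm (by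
      have h1 := hh.map (MulAut.conj central)
      simp only [← third_eq, MulAut.conj_apply, trans_inv hz, mul_assoc, trans_sq hz, mul_one] at h1
      rw [← mul_assoc central central (tr 1), trans_sq hz, one_mul] at h1
      exact h1.symm)
    exact (inv_comm_eq hc hz he hne (by rw [ex]; exact h)).1 c2
  exfalso
  obtain ⟨p, rfl⟩ := (class_iff e).mp he
  obtain ⟨-, k, hk, ek⟩ := far_conj (far_spec p (fun hh => c0 hh.symm) (fun hh => c1 hh.symm)
    fun hh => c2 hh.symm)
  have hkx : MulAut.conj k xElt = xElt := by
    obtain ⟨a, b⟩ := mem_threeK.mp (letK_le hk)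
    show k * (central * tr 1) * k⁻¹ = central * tr 1
    rw [(a.mul_right b).eq, mul_inv_cancel_right]
  have h2 : tr 224 * xElt * tr 224 = xElt⁻¹ := by
    apply (MulAut.conj k).injective
    rw [map_mul, map_mul, map_inv, ek, hkx]
    exact h
  set W := TransCent.dWord certA zWord 224
  have hW : prodW gen W = tr 224 := (env.dWord_spec ⟨224, N_pts.2.2.2.2⟩).2.symm
  have hlt := (env.dWord_spec ⟨224, N_pts.2.2.2.2⟩).1
  refine ne_words (app_lt (app_lt hlt xWord_lt) (app_lt hlt xWord_lt)) nil_lt far_rep ?_
  rw [prodW_append, prodW_append, hW, xWord_eq, prodW_nil, ← mul_assoc, h2, inv_mul_cancel]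

theorem subA_inf : subA ⊓ Subgroup.centralizer ({tr 1} : Set Fi23) = threeK := by
  ext g
  rw [Subgroup.mem_inf, ← centralizer_central, Subgroup.mem_centralizer_singleton_iff,
    Subgroup.mem_centralizer_singleton_iff, mem_threeK]
  rfl

theorem threeK_card : 28160 * Nat.card threeK = 129123503308800 := by
  classical
  have h := Fi23Cent.card_conjugates_mul subA (tr 1)
  rw [subA_inf, card_subA] at h
  rw [← h]
  congr 1
  have e : {z : Fi23 | ∃ g ∈ subA, g * tr 1 * g⁻¹ = z} =
      (fun p : Fin certA.N => tr p) '' {p | subMask1.testBit p = true} := by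
    ext z
    constructor
    · rintro ⟨g, hg, rfl⟩
      exact ⟨rho g ⟨1, N_pts.2.1⟩, (setupA.orbit_mem_iff subMask1_orbit _).mp ⟨g, hg, rfl⟩,
        (conj_tr g ⟨1, N_pts.2.1⟩).symm⟩
    · rintro ⟨p, hp, rfl⟩
      obtain ⟨g, hg, rfl⟩ := (setupA.orbit_mem_iff subMask1_orbit p).mpr hp
      exact ⟨g, hg, conj_tr g ⟨1, N_pts.2.1⟩⟩
  rw [e, Nat.card_image_of_injective (f := fun p : Fin certA.N => tr p) (fun p q h => env.graph.injective h)]
  have hsz := subMask1_size
  rw [popc_eq] at hsz
  rw [Nat.card_eq_fintype_card, Fintype.card_subtype, ← hsz]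
  refine Eq.trans ?_ (Finset.card_map Fin.valEmbedding)
  refine congrArg Finset.card ?_
  symm
  have hN : certA.N = 31671 := rfl
  ext x
  simp only [Finset.mem_map, Finset.mem_filter, Finset.mem_univ, true_and, Finset.mem_range,
    Fin.valEmbedding_apply, Set.mem_ofPred_eq]
  constructor
  · rintro ⟨p, hp, rfl⟩
    exact ⟨hN ▸ p.2, hp⟩
  · rintro ⟨hx, hb⟩
    exact ⟨⟨x, hN.symm ▸ hx⟩, hb, rfl⟩

/-- The centralizer of the two transpositions is generated by eight letters and is `Ω₇(3)`. -/
theorem threeK_facts : letK = threeK ∧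
    Nonempty (threeK ≃* Cfsg.POmega (ZMod 3) (Cfsg.quadFormOdd 3 (ZMod 3))) := by
  classical
  have hle : letK ≤ subA := by
    refine (Subgroup.closure_le _).mpr ?_
    rintro _ ⟨g, hg, rfl⟩
    refine gen_mem ?_
    simp only [List.mem_cons, List.not_mem_nil, or_false] at hg
    omega
  obtain ⟨hcard, ⟨iso⟩⟩ := subH'_facts
  have htoGen : ∀ (g : ℕ) (hg : g < 9), toFi22 ⟨gen g, gen_mem hg⟩ = Fi22Pres.gen g := by
    intro g hg
    have key : ∀ (x : Fi22.Gen) (g : ℕ) (hg : g < 9), Fi22Pres.gen g = PresentedGroup.of x →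
        gen g = PresentedGroup.of (upGen x) → toFi22 ⟨gen g, gen_mem hg⟩ = Fi22Pres.gen g := by
      intro x g hg h1 h2
      refine coverEquiv.symm_apply_eq.mpr ?_
      obtain ⟨m, hm⟩ := coverOf_spec x
      change _ = coverMap (Fi22Pres.gen g)
      rw [h1, coverMap, PresentedGroup.toGroup.of, hm]
      exact congrArg _ (Subtype.ext h2)
    interval_cases g
    exacts [key .a _ (by norm_num) rfl rfl, key .b _ (by norm_num) rfl rfl, key .c _ (by norm_num) rfl rfl, key .d _ (by norm_num) rfl rfl,
      key .e _ (by norm_num) rfl rfl, key .f _ (by norm_num) rfl rfl, key .g _ (by norm_num) rfl rfl, key .h _ (by norm_num) rfl rfl, key .i _ (by norm_num) rfl rfl]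
  let θ : letK →* Fi22 := toFi22.comp (Subgroup.inclusion hle)
  have hrange : θ.range = subH' := by
    have hmap : θ.range = (letK.subgroupOf subA).map toFi22 := by
      rw [MonoidHom.range_eq_map, ← Subgroup.map_map, ← MonoidHom.range_eq_map, Subgroup.inclusion_range]
    rw [hmap]
    refine le_antisymm ?_ ?_
    · rw [Subgroup.map_le_iff_le_comap]
      intro u hu
      have : ∀ v ∈ letK, ∀ hv : v ∈ subA, toFi22 ⟨v, hv⟩ ∈ subH' := by
        intro v hv
        induction hv using Subgroup.closure_induction with
        | mem v hv =>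
          intro hv'
          obtain ⟨g, hg, rfl⟩ := hv
          have h9 : g < 9 := by simp only [List.mem_cons, List.not_mem_nil, or_false] at hg; omega
          rw [show (⟨gen g, hv'⟩ : subA) = ⟨gen g, gen_mem h9⟩ from rfl, htoGen g h9]
          exact Subgroup.subset_closure ⟨g, hg, rfl⟩
        | one => intro h1; exact (map_one toFi22).symm ▸ one_mem subH'
        | mul a b ha hb iha ihb =>
          intro hab
          have := mul_mem (iha (hle ha)) (ihb (hle hb))
          rwa [← map_mul] at this
        | inv a ha iha =>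
          intro hai
          have := inv_mem (iha (hle ha))
          rwa [← map_inv] at this
      exact this u hu u.2
    · refine (Subgroup.closure_le _).mpr ?_
      rintro _ ⟨g, hg, rfl⟩
      have h9 : g < 9 := by simp only [List.mem_cons, List.not_mem_nil, or_false] at hg; omega
      exact ⟨⟨gen g, gen_mem h9⟩, Subgroup.subset_closure ⟨g, hg, rfl⟩, htoGen g h9⟩
  have hK : Nat.card threeK = 4585351680 := by have := threeK_card; omega
  have h1 : Nat.card subH' ≤ Nat.card letK := by
    rw [← hrange]
    exact Nat.card_le_card_of_surjective θ.rangeRestrict θ.rangeRestrict_surjective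
  have heq : letK = threeK :=
    Subgroup.eq_of_le_of_card_ge letK_le (by rw [hK, ← hcard]; exact h1)
  have hb : Function.Bijective θ.rangeRestrict :=
    (Nat.bijective_iff_surjective_and_card _).mpr ⟨θ.rangeRestrict_surjective, by
      rw [hrange, hcard, heq, hK]⟩
  exact ⟨heq, ⟨(MulEquiv.subgroupCongr heq.symm).trans
    ((MulEquiv.ofBijective _ hb).trans ((MulEquiv.subgroupCongr hrange).trans iso))⟩⟩

/-- The centralizer is generated by the transpositions in it. -/
theorem threeK_closure :
    threeK = Subgroup.closure {e | e ∈ transClass ∧ Commute central e ∧ Commute (tr 1) e} := by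
  refine le_antisymm ?_ ((Subgroup.closure_le _).mpr fun e he => mem_threeK.mpr ⟨he.2.1.symm, he.2.2.symm⟩)
  rw [← threeK_facts.1]
  refine Subgroup.closure_mono ?_
  rintro _ ⟨g, hg, rfl⟩
  have hm : gen g ∈ threeK := letK_le (Subgroup.subset_closure ⟨g, hg, rfl⟩)
  refine ⟨?_, (mem_threeK.mp hm).1.symm, (mem_threeK.mp hm).2.symm⟩
  have h10 : g < certA.K := by
    simp only [List.mem_cons, List.not_mem_nil, or_false] at hg; rw [hK]; omega
  obtain ⟨x, -, e⟩ := Fi23Cent.letter_targets g h10
  exact e ▸ tr_mem x

/-- Two transpositions that do not commute are conjugate to the standard ones. -/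
theorem pair_conj {a d : Fi23} (ha : a ∈ transClass) (hd : d ∈ transClass) (h : ¬ Commute a d) :
    ∃ g : Fi23, MulAut.conj g a = central ∧ MulAut.conj g d = tr 1 := by
  obtain ⟨c, hc⟩ := isConj_iff.mp (ha : IsConj central a)
  have e1 : MulAut.conj c⁻¹ a = central := by rw [← hc]; simp [mul_assoc]
  obtain ⟨q, hq⟩ := (class_iff d).mp hd
  have e2 : MulAut.conj c⁻¹ d = tr (rho c⁻¹ q) := by rw [← hq]; exact conj_tr _ q
  set w := rho c⁻¹ q
  have hn : ¬ Commute central (tr w) := fun hh => h (by
    rw [← e1, ← e2] at hh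
    have hh' := hh.map (MulAut.conj c⁻¹).symm
    rwa [MulEquiv.symm_apply_apply, MulEquiv.symm_apply_apply] at hh')
  have hm : subMask1.testBit w = true := by
    have hb : Nat.testBit commMask w = false :=
      Bool.eq_false_iff.mpr fun hb => hn ((graph.mask w).mp hb)
    have hw0 : (w : ℕ) ≠ 0 := fun e => hn (by rw [e, tr_zero])
    have hcov := Nat.eq_of_beq_eq_true (suborbits.cover w w.2)
    rw [commMask, Nat.testBit_or, Bool.or_eq_false_iff] at hb
    rw [show [subMask0, subMask1].length + 1 = 3 from rfl, show List.range 3 = [0, 1, 2] from rfl] at hcov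
    simp only [List.countP_cons, List.countP_nil, List.getD_cons_zero, List.getD_cons_succ] at hcov
    simp [hb.2, hw0, Nat.testBit_one_eq_true_iff_self_eq_zero] at hcov
    exact hcov
  obtain ⟨k, hk, ek⟩ := (setupA.orbit_mem_iff subMask1_orbit w).mpr hm
  refine ⟨k⁻¹ * c⁻¹, ?_, ?_⟩
  · rw [map_mul, MulAut.mul_apply, e1, MulAut.conj_apply, comm_central _ (inv_mem hk), mul_inv_cancel_right]
  · rw [map_mul, MulAut.mul_apply, e2, conj_tr, map_inv, ← ek]
    simp

theorem clq_sound : ∀ (d : ℕ) (l c : List ℕ), clqOK d l = true → c.Sublist l →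
    c.Pairwise (fun i j => (nth nbrRows i 0).testBit j = true) → c.length ≤ d := by
  intro d
  induction d with
  | zero =>
    intro l c h hc _
    have hl : l = [] := List.isEmpty_iff.mp h
    subst hl
    simp [List.sublist_nil.mp hc]
  | succ d ih =>
    intro l
    induction l with
    | nil => intro c _ hc _; simp [List.sublist_nil.mp hc]
    | cons i r ihr =>
      intro c h hc hp
      have h' : band (clqOK d (r.filter fun j => Nat.testBit (nth nbrRows i 0) j)) (clqOK (d + 1) r) = true := h
      rw [band_eq_true] at h'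
      cases hc with
      | cons _ hc => exact ihr c h'.2 hc hp
      | cons_cons _ hc =>
        rename_i c'
        rw [List.pairwise_cons] at hp
        have hsub := hc.filter (fun j => Nat.testBit (nth nbrRows i 0) j)
        rw [List.filter_eq_self.mpr hp.1] at hsub
        have := ih _ c' h'.1 hsub hp.2
        simp only [List.length_cons]
        omega

/-- At most seven of the transpositions commuting with both commute pairwise, and seven do. -/
theorem width_seven :
    Cfsg.commutingWidth {e | e ∈ transClass ∧ Commute central e ∧ Commute (tr 1) e} = 7 := by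
  classical
  set S := {e | e ∈ transClass ∧ Commute central e ∧ Commute (tr 1) e} with hS
  have hle : ∀ E : Set Fi23, E ⊆ S → E.Finite → (∀ a ∈ E, ∀ b ∈ E, Commute a b) → E.ncard ≤ 7 := by
    intro E hE hfin hc
    by_cases hne : E.Nonempty
    swap
    · simp [Set.not_nonempty_iff_eq_empty.mp hne]
    obtain ⟨e₀, he₀⟩ := hne
    obtain ⟨h₀, h0z, h0y⟩ := hE he₀
    obtain ⟨p, rfl⟩ := (class_iff e₀).mp h₀
    obtain ⟨-, k, hk, ek⟩ := near_conj (near_spec p h0z h0y)
    obtain ⟨kz, ky⟩ := mem_threeK.mp (letK_le (inv_mem hk))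
    let F : Finset ℕ := (Finset.range 126).filter fun i => MulAut.conj k (tr (nth nbrPts i 0)) ∈ E
    let c := (List.range 126).filter fun i => decide (MulAut.conj k (tr (nth nbrPts i 0)) ∈ E)
    have hrow := rows_ok
    simp only [rowsOK, List.all_eq_true, List.mem_range, Bool.or_eq_true, Bool.not_eq_true',
      Bool.and_eq_false_iff] at hrow
    have hlenL : nbrPts.length = 126 := by decide +kernel
    have hcp : c.Pairwise (fun i j => (nth nbrRows i 0).testBit j = true) := by
      refine List.Pairwise.imp_of_mem ?_ ((List.pairwise_lt_range (n := 126)).filter _)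
      intro i j hi hj hij
      simp only [c, List.mem_filter, List.mem_range, decide_eq_true_eq] at hi hj
      rcases hrow i hi.1 j hj.1 with (h | h) | h
      · rw [Nat.blt_eq.mpr hij] at h; simp at h
      · exfalso
        have hlt : ∀ i < 126, nth nbrPts i 0 < certA.N := by
          have h : (nbrPts.all fun x => Nat.blt x certA.N) = true := by decide +kernel
          simp only [List.all_eq_true, Nat.blt_eq] at h
          intro i hi
          exact h _ (by rw [nth_eq, List.getD_eq_getElem _ _ (hlenL ▸ hi)]; exact List.getElem_mem _)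
        have hcc := (hc _ hi.2 _ hj.2).map (MulAut.conj k).symm
        simp only [MulEquiv.symm_apply_apply] at hcc
        rw [(env.graph.commute_iff env.rep ⟨_, hlt i hi.1⟩ ⟨_, hlt j hj.1⟩).mpr hcc] at h
        simp at h
      · exact h
    have hlen : c.length ≤ 6 := clq_sound 6 (List.range 126) c clique_ok List.filter_sublist hcp
    have hsub : E ⊆ ↑(insert (MulAut.conj k (tr 434))
        (c.toFinset.image fun i => MulAut.conj k (tr (nth nbrPts i 0)))) := by
      intro e he
      obtain ⟨hec, hez, hey⟩ := hE he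
      obtain ⟨q, hq⟩ := (class_iff _).mp (Fi23Cent.conj_class k⁻¹ ▸ Set.mem_image_of_mem _ hec)
      have hback : MulAut.conj k (tr q) = e := by
        change MulAut.conj k (conjAt certA gen central q) = e
        rw [hq]
        simp [mul_assoc]
      have fix : ∀ {u : Fi23}, Commute k⁻¹ u → MulAut.conj k⁻¹ u = u := fun {u} hu => by
        rw [MulAut.conj_apply, hu.eq, mul_inv_cancel_right]
      have q0 : Commute central (tr q) := by
        have := hez.map (MulAut.conj k⁻¹)
        rwa [fix kz, ← hq] at this
      have q1 : Commute (tr 1) (tr q) := by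
        have := hey.map (MulAut.conj k⁻¹)
        rwa [fix ky, ← hq] at this
      have hqr : Commute (tr 434) (tr q) := by
        have := (hc _ he₀ _ he).map (MulAut.conj k⁻¹)
        rw [← hq] at this
        have e0 : MulAut.conj k⁻¹ (conjAt certA gen central p) = tr 434 := by
          change MulAut.conj k⁻¹ (tr p) = _
          rw [← ek]; simp [mul_assoc]
        rwa [e0] at this
      have hn := nbr_spec q.2
      unfold nbrAt at hn
      simp only [strict_eq] at hn
      rw [near_spec q q0 q1, pick_true,
        (env.graph.commute_iff env.rep ⟨434, N_pts.2.2.2.1⟩ q).mpr hqr, pick_true, Bool.or_eq_true] at hn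
      simp only [Finset.coe_insert, Finset.coe_image, Set.mem_insert_iff, Set.mem_image]
      rcases hn with h | h
      · left; rw [← hback, Nat.eq_of_beq_eq_true h]
      · right
        obtain ⟨y, hy, ey⟩ := List.any_eq_true.mp h
        obtain ⟨i, hi, rfl⟩ := List.getElem_of_mem hy
        have ei : nth nbrPts i 0 = (q : ℕ) := by
          rw [nth_eq, List.getD_eq_getElem _ _ hi]; exact (Nat.eq_of_beq_eq_true ey).symm
        refine ⟨i, ?_, by rw [ei, hback]⟩
        simp only [c, Finset.mem_coe, List.mem_toFinset, List.mem_filter, List.mem_range, decide_eq_true_eq]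
        exact ⟨hlenL ▸ hi, by rw [ei, hback]; exact he⟩
    refine (Set.ncard_le_ncard hsub (Finset.finite_toSet _)).trans ?_
    rw [Set.ncard_coe_finset]
    refine (Finset.card_insert_le _ _).trans ?_
    have := (Finset.card_image_le (s := c.toFinset)
      (f := fun i => MulAut.conj k (tr (nth nbrPts i 0)))).trans (List.toFinset_card_le c)
    omega
  have hs := seven_ok
  simp only [strict_eq, Bool.and_eq_true, List.all_eq_true, Nat.blt_eq] at hs
  obtain ⟨⟨h7, hmem⟩, hgood⟩ := hs
  obtain ⟨-, hnd, hcomm⟩ := Fi23Inv.goodList_spec hgood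
  refine le_antisymm ?_ ?_
  · refine csSup_le ⟨0, ∅, by simp, Set.finite_empty, by simp, by simp⟩ ?_
    rintro n ⟨E, hE, hfin, hc, rfl⟩
    exact hle E hE hfin hc
  · refine le_csSup ⟨7, fun n ⟨E, hE, hfin, hc, e⟩ => e ▸ hle E hE hfin hc⟩ ?_
    refine ⟨↑(sevenPts.map tr).toFinset, ?_, Finset.finite_toSet _, ?_, ?_⟩
    · intro e he
      simp only [Finset.mem_coe, List.mem_toFinset, List.mem_map] at he
      obtain ⟨x, hx, rfl⟩ := he
      obtain ⟨hxN, hxm⟩ := hmem x hx
      obtain ⟨-, k, hk, ek⟩ := near_conj hxm
      have hk' := mem_threeK.mp (letK_le hk)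
      have hb := third_point
      simp only [Bool.and_eq_true] at hb
      have b0 := (graph.mask ⟨434, N_pts.2.2.2.1⟩).mp hb.1.2
      have b1 := (env.graph.commute_iff env.rep ⟨1, N_pts.2.1⟩ ⟨434, N_pts.2.2.2.1⟩).mp hb.2
      refine ⟨tr_mem ⟨x, hxN⟩, ?_, ?_⟩
      · have := b0.map (MulAut.conj k)
        rwa [MulAut.conj_apply, hk'.1.eq, mul_inv_cancel_right, show conjAt certA gen central 434 = tr 434 from rfl, ek] at this
      · have := b1.map (MulAut.conj k)
        rwa [show conjAt certA gen central 434 = tr 434 from rfl, ek, show conjAt certA gen central 1 = tr 1 from rfl,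
          MulAut.conj_apply, hk'.2.eq, mul_inv_cancel_right] at this
    · intro a ha b hb
      exact hcomm a (by simpa using ha) b (by simpa using hb)
    · rw [Set.ncard_coe_finset, List.toFinset_card_of_nodup hnd, List.length_map]
      exact Nat.eq_of_beq_eq_true h7

end CfsgLib.Fi23ThreeA
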