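import Cfsg.Agent.Lib.Fi23Inv.Defs
import Cfsg.Agent.Lib.Fi23ThreeA.Data
import Cfsg.Agent.Lib.Fi23ThreeA.DataFar

/-!
Checks for an element of order three that is a product of two transpositions of the presented group Fi23.
-/

set_option autoImplicit false

namespace CfsgLib.Fi23ThreeA

open CfsgLib.CosetEnum CfsgLib.Fi23Pres

/-- words of the letters centralizing the triple -/
def kGens : List (List ℕ) := [[0], [1], [2], [3], [4], [5], [7], [8]]

/-- the word of the element of order three -/
noncomputable def xWord : List ℕ := zWord ++ TransCent.dWord certA zWord 1

/-- a coset is near, is far, or commutes with exactly one member of the triple -/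
noncomputable def scanAt (near far x : ℕ) : Bool :=
  strict x fun x => pick (Nat.testBit commMask x)
    (pick (certA.relB commMask 1 x) (Nat.testBit near x) true)
    (pick (certA.relB commMask 1 x || certA.relB commMask 7999 x) true
      (Nat.beq x 0 || Nat.beq x 1 || Nat.beq x 7999 || Nat.testBit far x))

/-- a coset fixed by the element commutes with both transpositions -/
noncomputable def fixAt (x : ℕ) : Bool :=
  strict x fun x => pick (Nat.beq (certA.run x (certA.revInv xWord)) x)
    (band (Nat.testBit commMask x) (certA.relB commMask 1 x)) true

/-- a near coset commuting with the first one is listed -/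
noncomputable def nbrAt (near x : ℕ) : Bool :=
  strict x fun x => pick (Nat.testBit near x)
    (pick (certA.relB commMask 434 x) (Nat.beq x 434 || nbrPts.any fun y => Nat.beq x y) true) true

/-- the rows contain the later commuting neighbours -/
noncomputable def rowsOK : Bool :=
  (List.range 126).all fun i => (List.range 126).all fun j =>
    !(Nat.blt i j && certA.relB commMask (nth nbrPts i 0) (nth nbrPts j 0)) ||
      Nat.testBit (nth nbrRows i 0) j

/-- no more than `d` of the listed indices commute pairwise -/
noncomputable def clqOK (d : ℕ) : List ℕ → Bool :=
  Nat.rec (fun l => l.isEmpty)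
    (fun _ ih l => List.rec true
      (fun i r rb => band (ih (r.filter fun j => Nat.testBit (nth nbrRows i 0) j)) rb) l) d

end CfsgLib.Fi23ThreeA
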