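import Cfsg.Agent.Lib.Fi23ThreeA.Defs

/-!
Kernel checks on the cosets around a standard triple of the presented group Fi23.
-/

set_option autoImplicit false
set_option Elab.async false
set_option maxRecDepth 200000

namespace CfsgLib.Fi23ThreeA

open CfsgLib.CosetEnum CfsgLib.Fi23Pres

/-- the cosets commuting with the triple -/
noncomputable def nearMask : ℕ := (reach certA kGens nearTree (2 ^ 434)).getD 0

/-- the cosets commuting with none of the triple -/
noncomputable def farMask : ℕ := (reach certA kGens farTree (2 ^ 224)).getD 0

theorem near_reach : (reach certA kGens nearTree (2 ^ 434)).isSome = true := by decide +kernel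

theorem far_reach : (reach certA kGens farTree (2 ^ 224)).isSome = true := by decide +kernel

theorem kGens_ok : (kGens.all fun w => (w.all fun g => Nat.blt g 10) &&
    Nat.beq (certA.run 0 (certA.revInv w)) 0 && Nat.beq (certA.run 1 (certA.revInv w)) 1) = true := by
  decide +kernel

theorem third_point : (Nat.beq (certA.run 1 (certA.revInv zWord)) 7999 && Nat.blt 7999 certA.N &&
    !(Nat.testBit commMask 1) && Nat.blt 434 certA.N && Nat.blt 224 certA.N &&
    Nat.testBit commMask 434 && certA.relB commMask 1 434) = true := by
  decide +kernel

theorem far_rep : sameBases certA levels
    (TransCent.dWord certA zWord 224 ++ xWord ++ (TransCent.dWord certA zWord 224 ++ xWord)) [] = false := by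
  decide +kernel

theorem scan0 : (strict nearMask fun A => strict farMask fun B => Cert.blockPts certA.N (scanAt A B) 13 0) = true := by
  decide +kernel

theorem scan1 : (strict nearMask fun A => strict farMask fun B => Cert.blockPts certA.N (scanAt A B) 13 1) = true := by
  decide +kernel

theorem scan2 : (strict nearMask fun A => strict farMask fun B => Cert.blockPts certA.N (scanAt A B) 13 2) = true := by
  decide +kernel

theorem scan3 : (strict nearMask fun A => strict farMask fun B => Cert.blockPts certA.N (scanAt A B) 13 3) = true := by
  decide +kernel

end CfsgLib.Fi23ThreeA
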