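import Cfsg.Agent.Lib.Fi23ThreeA.CheckA

/-!
Kernel checks of the fixed cosets of an element of order three and of the commuting near cosets.
-/

set_option autoImplicit false
set_option Elab.async false
set_option maxRecDepth 200000

namespace CfsgLib.Fi23ThreeA

open CfsgLib.CosetEnum CfsgLib.Fi23Pres

private theorem blockPts_halves {n : ℕ} {f : ℕ → Bool} {k j : ℕ}
    (h0 : Cert.blockPts n f k (2 * j) = true) (h1 : Cert.blockPts n f k (2 * j + 1) = true) :
    Cert.blockPts n f (k + 1) j = true := by
  unfold Cert.blockPts at h0 h1 ⊢
  have key : ∀ (g : ℕ → Bool) (b : ℕ),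
      allUp g (k + 1) b = band (allUp g k b) (allUp g k (b + 2 ^ k)) := fun g b => by
    change strict b (fun b => band (allUp g k b) (allUp g k (b + 2 ^ k))) = _
    rw [strict_eq]
  rw [key, show j * 2 ^ (k + 1) = 2 * j * 2 ^ k from by ring,
    show 2 * j * 2 ^ k + 2 ^ k = (2 * j + 1) * 2 ^ k from by ring, h0, h1]
  rfl

theorem fix_scan0a : Cert.blockPts certA.N fixAt 12 0 = true := by decide +kernel

theorem fix_scan0b : Cert.blockPts certA.N fixAt 12 1 = true := by decide +kernel

theorem fix_scan0 : Cert.blockPts certA.N fixAt 13 0 = true :=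
  blockPts_halves (k := 12) fix_scan0a fix_scan0b

theorem fix_scan1a : Cert.blockPts certA.N fixAt 12 2 = true := by decide +kernel

theorem fix_scan1b : Cert.blockPts certA.N fixAt 12 3 = true := by decide +kernel

theorem fix_scan1 : Cert.blockPts certA.N fixAt 13 1 = true :=
  blockPts_halves (k := 12) fix_scan1a fix_scan1b

theorem fix_scan2a : Cert.blockPts certA.N fixAt 12 4 = true := by decide +kernel

theorem fix_scan2b : Cert.blockPts certA.N fixAt 12 5 = true := by decide +kernel

theorem fix_scan2 : Cert.blockPts certA.N fixAt 13 2 = true :=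
  blockPts_halves (k := 12) fix_scan2a fix_scan2b

theorem fix_scan3a : Cert.blockPts certA.N fixAt 12 6 = true := by decide +kernel

theorem fix_scan3b : Cert.blockPts certA.N fixAt 12 7 = true := by decide +kernel

theorem fix_scan3 : Cert.blockPts certA.N fixAt 13 3 = true :=
  blockPts_halves (k := 12) fix_scan3a fix_scan3b

theorem nbr_scan0 : (strict nearMask fun A => Cert.blockPts certA.N (nbrAt A) 13 0) = true := by decide +kernel

theorem nbr_scan1 : (strict nearMask fun A => Cert.blockPts certA.N (nbrAt A) 13 1) = true := by decide +kernel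

theorem nbr_scan2 : (strict nearMask fun A => Cert.blockPts certA.N (nbrAt A) 13 2) = true := by decide +kernel

theorem nbr_scan3 : (strict nearMask fun A => Cert.blockPts certA.N (nbrAt A) 13 3) = true := by decide +kernel

theorem rows_ok : rowsOK = true := by decide +kernel

theorem clique_ok : clqOK 6 (List.range 126) = true := by decide +kernel

theorem seven_ok : (Nat.beq sevenPts.length 7 &&
    (strict nearMask fun A => sevenPts.all fun x => Nat.blt x certA.N && Nat.testBit A x) &&
    Fi23Inv.goodList sevenPts) = true := by
  decide +kernel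

end CfsgLib.Fi23ThreeA
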